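import Groth.Agent.Lib.BoxRes9.Kernel
import Groth.Agent.Lib.Exact8.ProjPhi
import Groth.Agent.Lib.DPerf.OneDegree
import Groth.Agent.Lib.DPush.Affine
import Groth.Agent.Lib.DMV.Support
import Groth.Agent.Lib.CohFound.DevissageModel
import Groth.Prelude.Def_SGA6

/-! Where a kernel of the identity functor is supported. -/

set_option autoImplicit false
set_option linter.style.haveILetI false
set_option linter.unusedSectionVars false
set_option backward.isDefEq.respectTransparency false
set_option backward.isDefEq.respectTransparency.types false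
set_option maxHeartbeats 1600000

universe u

open CategoryTheory CategoryTheory.Limits AlgebraicGeometry CategoryTheory.Pretriangulated MonoidalCategory

attribute [local instance] HasDerivedCategory.standard

noncomputable section

namespace Groth.Agent.KerId9

open DMon9

attribute [local instance] DBC9.hasRpush

variable {k : Type u} [Field k] {X : Scheme.{u}} [X.Over (Spec (.of k))]

local notation "ff" => (X ↘ Spec (CommRingCat.of k))

/-- The skyscraper sheaf with value the residue field. -/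
abbrev skyO (x : X) : X.Modules := (Coh.push (X.fromSpecResidueField x)).obj (Coh.structureModule _)

theorem isCoh_skyO [IsLocallyNoetherian X] {x : X} (hx : IsClosed ({x} : Set X)) : Coh.IsCoh (skyO x) := by
  haveI : IsClosedImmersion (X.fromSpecResidueField x) := isClosed_singleton_iff_isClosedImmersion.1 hx
  exact CohFound.isCoh_push_closedImm _ (M1.isCoh_structureModule _)

theorem isPerfect_of_coh [Smooth (X ↘ Spec (CommRingCat.of k))] [QuasiCompact (X ↘ Spec (CommRingCat.of k))] {M : X.Modules} (hM : Coh.IsCoh M) :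
    DCoh.IsPerfect (DCoh.inD X M) := by
  haveI : IsLocallyNoetherian X := LocallyOfFiniteType.isLocallyNoetherian ff
  haveI : CompactSpace X := QuasiCompact.compactSpace_of_compactSpace ff
  haveI : AlgebraicGeometry.IsNoetherian X := {}
  exact DPerf.isPerfect_iff_approx.2 (DPerf.isPerfect_of_regular
    (BoxRes9.regular_of_smooth_field ff) 1 0 _ inferInstance
    (fun i hi => DerivedCategory.isZero_of_isLE _ 0 i (by omega)) (K0Db.bd_single K0Coh.serre_coh hM 0).1)

/-- The skyscraper is a derived direct image. -/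
theorem nonempty_skyO_iso [IsLocallyNoetherian X] {x : X} (hx : IsClosed ({x} : Set X)) :
    Nonempty (DCoh.inD X (skyO x) ≅
      (DCoh.Rpush (X.fromSpecResidueField x)).obj (DCoh.inD _ (Coh.structureModule _))) := by
  haveI : IsClosedImmersion (X.fromSpecResidueField x) := isClosed_singleton_iff_isClosedImmersion.1 hx
  obtain ⟨rp⟩ := RHom.nonempty_rpushIso (X.fromSpecResidueField x)
  exact ⟨(((Scheme.Modules.pushforward (X.fromSpecResidueField x)).mapDerivedCategorySingleFunctor 0).app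
    _).symm ≪≫ (rp.app _).symm⟩

theorem isZero_skyO_away [IsLocallyNoetherian X] {x : X} (hx : IsClosed ({x} : Set X)) {U : X.Opens}
    (hU : x ∉ U) : IsZero ((lP U.ι).obj (DCoh.inD X (skyO x))) := by
  haveI : IsClosedImmersion (X.fromSpecResidueField x) := isClosed_singleton_iff_isClosedImmersion.1 hx
  refine IsZero.of_iso (DMV.isZero_restrictD fun y i hy => ?_) ((lPRes U.ι).app _)
  rcases eq_or_ne i 0 with rfl | hi
  · refine RHom.stalkZero_iso
      ((DerivedCategory.singleFunctorCompHomologyFunctorIso X.Modules 0).app _).symm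
      (DMV.stalkZero_of_not_mem_support fun h => ?_)
    have := CohFound.support_push_subset (X.fromSpecResidueField x) _ h
    rw [Scheme.range_fromSpecResidueField] at this
    exact hU ((show y = x from this) ▸ hy)
  · refine RHom.stalkZero_of_isZero y ?_
    rcases lt_or_gt_of_ne hi with h | h
    · exact DerivedCategory.isZero_of_isGE _ 0 i h
    · exact DerivedCategory.isZero_of_isLE _ 0 i h

variable [IsProper (X ↘ Spec (CommRingCat.of k))] [Smooth (X ↘ Spec (CommRingCat.of k))]

local notation "PR" => pullback (X ↘ Spec (CommRingCat.of k)) (X ↘ Spec (CommRingCat.of k))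
local notation "p₁" => pullback.fst (X ↘ Spec (CommRingCat.of k)) (X ↘ Spec (CommRingCat.of k))
local notation "p₂" => pullback.snd (X ↘ Spec (CommRingCat.of k)) (X ↘ Spec (CommRingCat.of k))

/-- The kernel functor on the skyscraper at `x`. -/
theorem nonempty_phi_skyO {x : X} (hx : IsClosed ({x} : Set X)) (A : DM PR) (hA : DCoh.IsQCohD (A : DCoh.D PR)) :
    Nonempty ((lP p₁ ⋙ FMAdj9.tRD A ⋙ DCoh.Rpush p₂).obj (DCoh.inD X (skyO x)) ≅
      (DCoh.Rpush (Limits.pullback.fst p₁ (X.fromSpecResidueField x) ≫ p₂)).obj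
        ((lP (Limits.pullback.fst p₁ (X.fromSpecResidueField x))).obj (A : DCoh.D PR))) := by
  haveI : IsLocallyNoetherian X := LocallyOfFiniteType.isLocallyNoetherian ff
  let j := X.fromSpecResidueField x
  haveI : IsClosedImmersion j := isClosed_singleton_iff_isClosedImmersion.1 hx
  let ι' := Limits.pullback.fst p₁ j
  let π := Limits.pullback.snd p₁ j
  haveI : Flat ff := inferInstance
  haveI : Flat p₁ := MorphismProperty.pullback_fst (P := @Flat) _ _ inferInstance
  haveI : IsClosedImmersion ι' := MorphismProperty.pullback_fst (P := @IsClosedImmersion) _ _ inferInstance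
  let O : DCoh.D (Spec (X.residueField x)) := DCoh.inD _ (Coh.structureModule _)
  have hO : DCoh.IsQCohD O := Exact8.isQCohD_single (M1.isCoh_structureModule _).1
  obtain ⟨e⟩ := nonempty_skyO_iso hx
  let hsq := (IsPullback.of_hasPullback p₁ j).flip
  let σ := DBC9.σcan hsq.w.symm
  haveI := FMAdj9.good_flat hsq (Or.inr inferInstance) (adjLP j) (adjLP ι') σ O hO
  let bc : (lP p₁).obj ((DCoh.Rpush j).obj O) ≅ (DCoh.Rpush ι').obj ((lP π).obj O) :=
    (asIso ((DBC9.bc (adjLP j) (adjLP ι') σ.hom).app O) :)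
  let u : (O : DM (Spec (X.residueField x))) ≅ 𝟙_ (DM _) :=
    ((DerivedCategory.singleFunctorIsoCompQ (Spec (X.residueField x)).Modules 0).app (Coh.structureModule _) :
      O ≅ (qK _).obj (𝟙_ (KF _)))
  let E : DM (Limits.pullback p₁ j) := (dPull π).obj (O : DM _)
  let uE : E ≅ 𝟙_ (DM _) := (dPull π).mapIso u ≪≫ (Functor.Monoidal.εIso (dPull π)).symm
  haveI := isIso_projT ι' E (isQCohD_lP π hO) A hA
  let pr : (((rM ι').obj E ⊗ A : DM PR) : DCoh.D PR) ≅
      (DCoh.Rpush ι').obj ((E ⊗ (dPull ι').obj A : DM _) : DCoh.D _) :=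
    (asIso ((projT ι' E).app A) :)
  let w : (E ⊗ (dPull ι').obj A : DM _) ≅ (dPull ι').obj A := whiskerRightIso uE _ ≪≫ λ_ _
  exact ⟨(DCoh.Rpush p₂).mapIso ((FMAdj9.tRD A).mapIso ((lP p₁).mapIso e ≪≫ bc) ≪≫ (pr :) ≪≫
    (DCoh.Rpush ι').mapIso (w :)) ≪≫ (FMAdj9.rpushComp ι' p₂ rfl).app _⟩

theorem isAffineHom_slice {x : X} :
    IsAffineHom (Limits.pullback.fst p₁ (X.fromSpecResidueField x) ≫ p₂) := by
  have h := ((IsPullback.of_hasPullback p₁ (X.fromSpecResidueField x)).paste_horiz
    (IsPullback.of_hasPullback ff ff).flip).flip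
  haveI : IsAffineHom (X.fromSpecResidueField x ≫ ff) := inferInstance
  exact MorphismProperty.of_isPullback h this

/-- Off the diagonal there is no cohomology over a closed point. -/
theorem stalk_eq_zero (A : DCoh.D PR) (hA : DCoh.IsPerfect A) {x : X} (hx : IsClosed ({x} : Set X))
    (hΦ : Nonempty ((lP p₁ ⋙ FMAdj9.tRD (A : DM PR) ⋙ DCoh.Rpush p₂).obj (DCoh.inD X (skyO x)) ≅
      DCoh.inD X (skyO x)))
    (z : ↥(PR)) (hz : p₁ z = x) (hz' : p₂ z ≠ x) (l : ℤ) :
    Subsingleton ((DCoh.HD A l).presheaf.stalk z) := by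
  haveI : IsLocallyNoetherian X := LocallyOfFiniteType.isLocallyNoetherian ff
  obtain ⟨eΦ⟩ := hΦ
  have hq : DCoh.IsQCohD A := DGen9.isQCohD_of_isPerfect hA
  obtain ⟨eL⟩ := nonempty_phi_skyO hx (A : DM PR) hq
  let j := X.fromSpecResidueField x
  let ι' := Limits.pullback.fst p₁ j
  let g := ι' ≫ p₂
  haveI : IsAffineHom g := isAffineHom_slice
  let U : X.Opens := ⟨{x}ᶜ, hx.isOpen_compl⟩
  let L : DCoh.D (Limits.pullback p₁ j) := (lP ι').obj A
  have hL : DCoh.IsQCohD L := isQCohD_lP ι' hq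
  let hsq := (isPullback_morphismRestrict g U).flip
  haveI : IsAffineHom (g ∣_ U) := MorphismProperty.of_isPullback hsq inferInstance
  let σ := DBC9.σcan hsq.w.symm
  haveI := FMAdj9.good_flat hsq (Or.inr inferInstance) (adjLP g) (adjLP (g ∣_ U)) σ L hL
  have hR : IsZero ((DCoh.Rpush (g ∣_ U)).obj ((lP (g ⁻¹ᵁ U).ι).obj L)) :=
    (isZero_skyO_away hx (U := U) (fun h => h rfl)).of_iso
      ((asIso ((DBC9.bc (adjLP g) (adjLP (g ∣_ U)) σ.hom).app L) :
        (lP U.ι).obj ((DCoh.Rpush g).obj L) ≅ _).symm ≪≫ (lP U.ι).mapIso (eL.symm ≪≫ eΦ))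
  have hzero := DPush.isZero_of_rpush (g ∣_ U) _ (isQCohD_lP _ hL) hR
  obtain ⟨w, hw⟩ : z ∈ Set.range ι' := by
    rw [Scheme.Pullback.range_fst, Scheme.range_fromSpecResidueField]
    exact hz
  have hwU : w ∈ g ⁻¹ᵁ U := by
    change g w ≠ x
    rw [Scheme.Hom.comp_apply, hw]
    exact hz'
  let w' : ↥((g ⁻¹ᵁ U : (Limits.pullback p₁ j).Opens) : Scheme.{u}) := ⟨w, hwU⟩
  let h := (g ⁻¹ᵁ U).ι ≫ ι'
  haveI : ∀ T : Scheme.{u}, ∀ y : T, DCoh.HasLpull (T.fromSpecResidueField y) := fun _ _ => KFlat.Sch.hasLpull _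
  haveI := KFlat.Sch.hasLpull h
  have hh : h w' = z := (Scheme.Hom.comp_apply _ _ _).trans hw
  obtain ⟨nl⟩ := nonempty_lpull_natIso_lP h
  have hzero' : IsZero ((DCoh.Lpull h).obj A) :=
    hzero.of_iso (nl.app A ≪≫ ((lPComp (g ⁻¹ᵁ U).ι ι' rfl).app A).symm)
  have hb : ∀ l, PerfD.betti A z l = 0 := fun l => by
    subst hh
    rw [← DPerf.betti_lpull hA h w' l]
    obtain ⟨n'⟩ := nonempty_lpull_natIso_lP (((g ⁻¹ᵁ U : (Limits.pullback p₁ j).Opens) : Scheme.{u}).fromSpecResidueField w')
    have : IsZero ((DCoh.Lpull (((g ⁻¹ᵁ U : (Limits.pullback p₁ j).Opens) : Scheme.{u}).fromSpecResidueField w')).obj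
        ((DCoh.Lpull h).obj A)) := by
      refine IsZero.of_iso ?_ (n'.app _)
      haveI := (adjLP (((g ⁻¹ᵁ U : (Limits.pullback p₁ j).Opens) : Scheme.{u}).fromSpecResidueField w')).isLeftAdjoint
      exact Functor.map_isZero _ hzero'
    have hs := ((SheafOfModules.evaluation _ (Opposite.op ⊤)).map_isZero ((DerivedCategory.homologyFunctor _ l).map_isZero this) :)
    haveI : Nontrivial (Coh.Γtop (Spec (((g ⁻¹ᵁ U : (Limits.pullback p₁ j).Opens) : Scheme.{u}).residueField w'))) :=
      (Scheme.ΓSpecIso (((g ⁻¹ᵁ U : (Limits.pullback p₁ j).Opens) : Scheme.{u}).residueField w')).commRingCatIsoToRingEquiv.toEquiv.nontrivial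
    exact @Module.finrank_zero_of_subsingleton _ _ _ _ _ _ (ModuleCat.subsingleton_of_isZero hs)
  by_cases h0 : l = 0
  · subst h0
    exact (DPerf.ff_of_profile hA z 1 0 fun l => by simp [hb l]).1 0 (by omega)
  · exact (DPerf.ff_of_profile hA z 0 0 fun l => by simp [hb l]).1 l h0

end Groth.Agent.KerId9
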