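import Groth.Agent.Lib.KerId9.Graph
import Groth.Agent.Lib.ModM1.PullSpec
import Groth.Agent.Lib.ModM1.Affine
import Groth.Agent.Lib.PushFin12.Basic
import Groth.Agent.Lib.BC8.FiniteShriek
import Mathlib.RingTheory.Filtration

/-! A morphism whose derived pullback is the identity on coherent sheaves is the identity. -/

set_option autoImplicit false
set_option linter.style.haveILetI false
set_option linter.unusedSectionVars false
set_option backward.isDefEq.respectTransparency false
set_option backward.isDefEq.respectTransparency.types false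
set_option maxHeartbeats 1600000

universe u

open CategoryTheory CategoryTheory.Limits AlgebraicGeometry CategoryTheory.Pretriangulated MonoidalCategory
open scoped TensorProduct

attribute [local instance] HasDerivedCategory.standard

noncomputable section

namespace Groth.Agent.KerId9

open DMon9

attribute [local instance] DBC9.hasRpush

/-- A derived natural isomorphism gives one on coherent modules. -/
theorem exists_module_iso {X : Scheme.{u}} (f : X ⟶ X)
    (hperf : ∀ M : X.Modules, Coh.IsCoh M → DCoh.IsPerfect (DCoh.inD X M))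
    (θ : ObjectProperty.ι (SGA6.perfP X) ⋙ lP f ≅ ObjectProperty.ι (SGA6.perfP X)) :
    ∃ ψ : ∀ M : X.Modules, Coh.IsCoh M → ((Scheme.Modules.pullback f).obj M ≅ M),
      ∀ (M N : X.Modules) (hM : Coh.IsCoh M) (hN : Coh.IsCoh N) (φ : M ⟶ N),
        (Scheme.Modules.pullback f).map φ ≫ (ψ N hN).hom = (ψ M hM).hom ≫ φ := by
  let H := DerivedCategory.homologyFunctor X.Modules 0
  let S := DerivedCategory.singleFunctor X.Modules 0
  let sH : S ⋙ H ≅ 𝟭 _ := DerivedCategory.singleFunctorCompHomologyFunctorIso X.Modules 0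
  let P := fun (M : X.Modules) (hM : Coh.IsCoh M) => (⟨DCoh.inD X M, hperf M hM⟩ : (SGA6.perfP X).FullSubcategory)
  haveI : ∀ M, IsIso ((Functor.whiskerRight (TwistBC9.cTr f) H).app M) := fun M => TwistBC9.isIso_H0_cTr f M
  haveI := NatIso.isIso_of_isIso_app (Functor.whiskerRight (TwistBC9.cTr f) H)
  let c : (S ⋙ lP f) ⋙ H ≅ (Scheme.Modules.pullback f ⋙ S) ⋙ H := asIso (Functor.whiskerRight (TwistBC9.cTr f) H)
  let d : (S ⋙ lP f) ⋙ H ≅ Scheme.Modules.pullback f :=
    c ≪≫ Functor.associator _ _ _ ≪≫ Functor.isoWhiskerLeft _ sH ≪≫ Functor.rightUnitor _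
  refine ⟨fun M hM => (d.app M).symm ≪≫ H.mapIso (θ.app (P M hM)) ≪≫ sH.app M, fun M N hM hN φ => ?_⟩
  let φ' : P M hM ⟶ P N hN := ObjectProperty.homMk (S.map φ)
  have h₁ := d.inv.naturality φ
  have h₂ := congrArg H.map (θ.hom.naturality φ')
  have h₃ := sH.hom.naturality φ
  simp only [Iso.trans_hom, Iso.symm_hom, Iso.app_inv, Iso.app_hom, Functor.mapIso_hom]
  rw [reassoc_of% h₁]
  simp only [Functor.map_comp, Functor.comp_map, Functor.id_map] at h₂ h₃
  simp only [Category.assoc]
  congr 1
  exact ((Category.assoc _ _ _).symm.trans ((congrArg (· ≫ _) h₂).trans ((Category.assoc _ _ _).trans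
    (congrArg (_ ≫ ·) h₃))))

theorem mem_support_skyO {X : Scheme.{u}} [IsLocallyNoetherian X] {x : X} (hx : IsClosed ({x} : Set X)) :
    x ∈ CohB1.support (skyO x) ∧ CohB1.support (skyO x) ⊆ {x} := by
  haveI : IsClosedImmersion (X.fromSpecResidueField x) := isClosed_singleton_iff_isClosedImmersion.1 hx
  have hsub : CohB1.support (skyO x) ⊆ {x} := by
    have := CohFound.support_push_subset (X.fromSpecResidueField x) (Coh.structureModule _)
    rwa [Scheme.range_fromSpecResidueField] at this
  refine ⟨?_, hsub⟩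
  by_contra h
  have hz : IsZero (skyO x) := DPerf.isZero_of_stalks fun y => not_not.1 fun hy => h (by
    have : y ∈ CohB1.support (skyO x) := hy
    rwa [show y = x from hsub this] at this)
  have h0 := isZero_of_push_affine (X.fromSpecResidueField x) (M1.isCoh_structureModule _).1 hz
  haveI : Subsingleton Γ(Spec (X.residueField x), ⊤) :=
    ModuleCat.subsingleton_of_isZero ((SheafOfModules.evaluation _ (Opposite.op ⊤)).map_isZero h0)
  haveI : Subsingleton (X.residueField x) := (Scheme.ΓSpecIso _).commRingCatIsoToRingEquiv.symm.toEquiv.subsingleton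
  exact one_ne_zero (α := X.residueField x) (Subsingleton.elim _ _)

/-- On an affine, compatibility with the quotient modules forces congruence modulo the ideal. -/
theorem sub_mem_of_iso {A : CommRingCat.{u}} (φ : A ⟶ A) (J : Ideal A) (N : ModuleCat.{u} A)
    (hann : ∀ c : A, (∀ n : N, c • n = 0) → c ∈ J)
    (θ : (ModuleCat.extendScalars φ.hom).obj N ≅ N)
    (a : A) (hθ : (ModuleCat.extendScalars φ.hom).map (ModuleCat.ofHom (a • LinearMap.id)) ≫ θ.hom =
      θ.hom ≫ ModuleCat.ofHom (a • LinearMap.id)) : φ a - a ∈ J := by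
  refine hann _ fun n => ?_
  obtain ⟨w, rfl⟩ := θ.toLinearEquiv.surjective n
  have hext : ((ModuleCat.extendScalars φ.hom).map (ModuleCat.ofHom (a • (LinearMap.id : N →ₗ[A] N)))).hom w =
      φ a • w := by
    clear hθ
    letI := φ.hom.toAlgebra
    induction w using TensorProduct.induction_on with
    | zero => rw [map_zero, smul_zero]
    | tmul s m =>
      refine (ModuleCat.ExtendScalars.map_tmul _ _ _ _).trans ?_
      refine Eq.trans ?_ (ModuleCat.ExtendScalars.smul_tmul φ.hom (φ a) s m).symm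
      exact (TensorProduct.smul_tmul a (show ((ModuleCat.restrictScalars φ.hom).obj (ModuleCat.of A A)) from s) m).symm
    | add p q hp hq => rw [map_add, hp, hq, smul_add]
  have h := congrArg (fun m => m.hom w) hθ
  simp only [ModuleCat.hom_comp, LinearMap.comp_apply, ModuleCat.hom_ofHom, LinearMap.smul_apply,
    LinearMap.id_apply] at h
  rw [hext, map_smul] at h
  rw [sub_smul]
  exact sub_eq_zero.2 h

variable {X : Scheme.{u}} [IsLocallyNoetherian X] [JacobsonSpace X]

theorem base_eq_id (f : X ⟶ X)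
    (ψ : ∀ M : X.Modules, Coh.IsCoh M → ((Scheme.Modules.pullback f).obj M ≅ M))
    (x : X) : f x = x := by
  have hfix : ∀ y : X, IsClosed ({y} : Set X) → f y = y := fun y hy => by
    obtain ⟨hmem, hsub⟩ := mem_support_skyO hy
    have hc := isCoh_skyO hy
    have hs : y ∈ CohB1.support ((Scheme.Modules.pullback f).obj (skyO y)) := fun hn =>
      hmem (haveI : Subsingleton ((KFlat.Sch.stF y).obj ((Scheme.Modules.pullback f).obj (skyO y))) := hn
        ((KFlat.Sch.stF y).mapIso (ψ _ hc)).symm.toLinearEquiv.toEquiv.subsingleton)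
    rw [M2.support_pullback f hc.1 hc.2] at hs
    exact hsub hs
  have hpre : ∀ C : Set X, IsClosed C → f ⁻¹' C = C := fun C hC => by
    apply Set.Subset.antisymm
    · rw [← closure_inter_closedPoints (hC.preimage f.continuous)]
      refine closure_minimal (fun y hy => ?_) hC
      have h1 : f y ∈ C := hy.1
      rwa [hfix y hy.2] at h1
    · conv_lhs => rw [← closure_inter_closedPoints hC]
      refine closure_minimal (fun y hy => ?_) (hC.preimage f.continuous)
      show f y ∈ C
      rw [hfix y hy.2]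
      exact hy.1
  have h₁ : x ⤳ f x := by
    rw [specializes_iff_mem_closure]
    have h := (hpre _ (isClosed_closure (s := {x}))).ge (subset_closure (Set.mem_singleton x))
    exact h
  have h₂ : f x ⤳ x := by
    rw [specializes_iff_mem_closure]
    exact (hpre _ (isClosed_closure (s := {f x}))).le (show f x ∈ _ from subset_closure (Set.mem_singleton (f x)))
  exact (h₂.antisymm h₁).eq

/-- A quotient ring as a quasi-coherent module, seen as a push forward. -/
theorem exists_tilde_quotient {A : CommRingCat.{u}} (J : Ideal A) :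
    ∃ T : (Spec (CommRingCat.of (A ⧸ J))).Modules, Coh.IsCoh T ∧
      Nonempty (tilde ((ModuleCat.restrictScalars (Ideal.Quotient.mk J)).obj (ModuleCat.of _ (A ⧸ J))) ≅
        (Scheme.Modules.pushforward (Spec.map (CommRingCat.ofHom (Ideal.Quotient.mk J) : A ⟶ CommRingCat.of (A ⧸ J)))).obj T) := by
  let π : A ⟶ CommRingCat.of (A ⧸ J) := CommRingCat.ofHom (Ideal.Quotient.mk J)
  let Q : ModuleCat.{u} (CommRingCat.of (A ⧸ J)) := ModuleCat.of _ (A ⧸ J)
  let T : (Spec (CommRingCat.of (A ⧸ J))).Modules := tilde Q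
  have hT : Coh.IsCoh T := BC8.isCoh_iso (tildeSelf (R := CommRingCat.of (A ⧸ J))).symm (M1.isCoh_structureModule _)
  haveI : ((Scheme.Modules.pushforward (Spec.map π)).obj T).IsQuasicoherent :=
    M1.isQCoh_push (Spec.map π) hT.1
  exact ⟨T, hT, ⟨(tilde.functor A).mapIso (((M1.pushΓIso π).app T ≪≫
      (ModuleCat.restrictScalars π.hom).mapIso (tilde.toTildeΓNatIso.app Q).symm).symm) ≪≫
      @asIso _ _ _ _ ((Scheme.Modules.pushforward (Spec.map π)).obj T).fromTildeΓ
        (Scheme.Modules.isIso_fromTildeΓ_of_isQuasicoherent (R := A) _)⟩⟩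

/-- A quotient by a power of a maximal ideal, as a coherent sheaf on the whole scheme. -/
theorem isCoh_push_quotient {A : CommRingCat.{u}} (j : Spec A ⟶ X) [IsOpenImmersion j] (P : Ideal A) [hP : P.IsMaximal]
    (n : ℕ) : Coh.IsCoh ((tilde.functor A ⋙ Scheme.Modules.pushforward j).obj
      ((ModuleCat.restrictScalars (Ideal.Quotient.mk (P ^ (n + 1)))).obj (ModuleCat.of _ (A ⧸ P ^ (n + 1))))) := by
  let J := P ^ (n + 1)
  let π : A ⟶ CommRingCat.of (A ⧸ J) := CommRingCat.ofHom (Ideal.Quotient.mk J)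
  haveI : IsClosedImmersion (Spec.map π) := IsClosedImmersion.spec_of_surjective π Ideal.Quotient.mk_surjective
  let i := Spec.map π ≫ j
  let z : Spec A := ⟨P, hP.isPrime⟩
  have hzc : IsClosed ({z} : Set (Spec A)) := (PrimeSpectrum.isClosed_singleton_iff_isMaximal z).2 hP
  have hxc : IsClosed ({j z} : Set X) := by
    have h : z ∈ j ⁻¹' closedPoints X := by
      rw [j.isOpenEmbedding.preimage_closedPoints]
      exact hzc
    exact h
  have hr : Set.range i = {j z} := by
    have h1 : Set.range (Spec.map π) = {z} := by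
      show Set.range (PrimeSpectrum.comap π.hom) = _
      rw [range_comap_of_surjective _ π.hom Ideal.Quotient.mk_surjective]
      simp only [π, CommRingCat.hom_ofHom, Ideal.mk_ker, J]
      rw [PrimeSpectrum.zeroLocus_pow P (Nat.succ_ne_zero n), ← PrimeSpectrum.closure_singleton z]
      exact hzc.closure_eq
    change Set.range (Spec.map π ≫ j) = _
    rw [Scheme.Hom.comp_base, TopCat.coe_comp, Set.range_comp, h1, Set.image_singleton]
  haveI : IsClosedImmersion i := .of_isPreimmersion i (by rw [hr]; exact hxc)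
  obtain ⟨T, hT, ⟨eN⟩⟩ := exists_tilde_quotient J
  exact BC8.isCoh_iso (((Scheme.Modules.pushforwardComp (Spec.map π) j).app T).symm ≪≫
      (Scheme.Modules.pushforward j).mapIso eN.symm) (CohFound.isCoh_push_closedImm i hT)

/-- The functor `tilde` followed by extension to `X`, restricted back. -/
def extRestr {A : CommRingCat.{u}} (j : Spec A ⟶ X) [IsOpenImmersion j] :
    (tilde.functor A ⋙ Scheme.Modules.pushforward j) ⋙ Scheme.Modules.pullback j ≅ tilde.functor A :=
  Functor.associator _ _ _ ≪≫ Functor.isoWhiskerLeft _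
    (Functor.isoWhiskerLeft _ (Scheme.Modules.restrictFunctorIsoPullback j).symm ≪≫
      asIso (Scheme.Modules.restrictAdjunction j).counit) ≪≫ Functor.rightUnitor _

/-- The pullback by `f` seen on the affine piece. -/
def extPull {A : CommRingCat.{u}} (j : Spec A ⟶ X) [IsOpenImmersion j] (f : X ⟶ X) (φ : A ⟶ A)
    (hsq : j ≫ f = Spec.map φ ≫ j) :
    ((tilde.functor A ⋙ Scheme.Modules.pushforward j) ⋙ Scheme.Modules.pullback f) ⋙ Scheme.Modules.pullback j ≅
      ModuleCat.extendScalars φ.hom ⋙ tilde.functor A :=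
  Functor.associator _ _ _ ≪≫
    Functor.isoWhiskerLeft _ (Scheme.Modules.pullbackComp j f ≪≫ Scheme.Modules.pullbackCongr hsq ≪≫
      (Scheme.Modules.pullbackComp (Spec.map φ) j).symm) ≪≫ (Functor.associator _ _ _).symm ≪≫
    Functor.isoWhiskerRight (extRestr j) _ ≪≫ M1.tildePullbackIso φ

theorem sub_mem_pow {A : CommRingCat.{u}} (f : X ⟶ X) (j : Spec A ⟶ X) [IsOpenImmersion j] (φ : A ⟶ A)
    (hsq : j ≫ f = Spec.map φ ≫ j)
    (ψ : ∀ M : X.Modules, Coh.IsCoh M → ((Scheme.Modules.pullback f).obj M ≅ M))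
    (hψ : ∀ (M N : X.Modules) (hM : Coh.IsCoh M) (hN : Coh.IsCoh N) (φ : M ⟶ N),
        (Scheme.Modules.pullback f).map φ ≫ (ψ N hN).hom = (ψ M hM).hom ≫ φ)
    (a : A) (P : Ideal A) [P.IsMaximal] (n : ℕ) : φ a - a ∈ P ^ (n + 1) := by
  let N : ModuleCat.{u} A :=
    (ModuleCat.restrictScalars (Ideal.Quotient.mk (P ^ (n + 1)))).obj (ModuleCat.of _ (A ⧸ P ^ (n + 1)))
  let F : ModuleCat.{u} A ⥤ X.Modules := tilde.functor A ⋙ Scheme.Modules.pushforward j
  have hM : Coh.IsCoh (F.obj N) := isCoh_push_quotient j P n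
  let L := extPull j f φ hsq
  let E := extRestr (X := X) j
  let Θ : (ModuleCat.extendScalars φ.hom ⋙ tilde.functor A).obj N ≅ (tilde.functor A).obj N :=
    (L.app N).symm ≪≫ (Scheme.Modules.pullback j).mapIso (ψ (F.obj N) hM) ≪≫ E.app N
  let α : N ⟶ N := ModuleCat.ofHom (a • LinearMap.id)
  have hnat : (ModuleCat.extendScalars φ.hom ⋙ tilde.functor A).map α ≫ Θ.hom = Θ.hom ≫ (tilde.functor A).map α := by
    have h₁ := L.inv.naturality α
    have h₂ := congrArg (Scheme.Modules.pullback j).map (hψ _ _ hM hM (F.map α))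
    have h₃ := E.hom.naturality α
    rw [Functor.map_comp, Functor.map_comp] at h₂
    simp only [Θ, Iso.trans_hom, Iso.symm_hom, Iso.app_inv, Iso.app_hom, Functor.mapIso_hom, Category.assoc]
    refine ((Category.assoc _ _ _).symm.trans ((congrArg (· ≫ _) h₁).trans (Category.assoc _ _ _))).trans ?_
    congr 1
    exact ((Category.assoc _ _ _).symm.trans ((congrArg (· ≫ _) h₂).trans ((Category.assoc _ _ _).trans
      (congrArg (_ ≫ ·) h₃))))
  refine sub_mem_of_iso φ _ N (fun c hc => ?_) ((tilde.functor A).preimageIso Θ) a ?_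
  · have h := hc (show N from (1 : A ⧸ P ^ (n + 1)))
    have h' : Ideal.Quotient.mk (P ^ (n + 1)) c * 1 = 0 := h
    rw [mul_one] at h'
    exact Ideal.Quotient.eq_zero_iff_mem.1 h'
  · refine (tilde.functor A).map_injective ?_
    rw [Functor.map_comp, Functor.map_comp, Functor.preimageIso_hom, Functor.map_preimage]
    exact hnat

/-- A morphism acting as the identity on coherent modules, naturally, is the identity. -/
theorem eq_id_of_module_iso (f : X ⟶ X)
    (ψ : ∀ M : X.Modules, Coh.IsCoh M → ((Scheme.Modules.pullback f).obj M ≅ M))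
    (hψ : ∀ (M N : X.Modules) (hM : Coh.IsCoh M) (hN : Coh.IsCoh N) (φ : M ⟶ N),
        (Scheme.Modules.pullback f).map φ ≫ (ψ N hN).hom = (ψ M hM).hom ≫ φ) : f = 𝟙 X := by
  have hb := base_eq_id f ψ
  refine Scheme.Cover.hom_ext (X.openCoverOfIsOpenCover (fun U : X.affineOpens => (U : X.Opens))
    (by rw [TopologicalSpace.IsOpenCover, iSup_affineOpens_eq_top])) _ _ fun U => ?_
  obtain ⟨U, hU⟩ := U
  show U.ι ≫ f = U.ι ≫ 𝟙 X
  rw [Category.comp_id, ← cancel_epi hU.isoSpec.inv, ← Category.assoc]
  change hU.fromSpec ≫ f = hU.fromSpec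
  have hle : U ≤ f ⁻¹ᵁ U := fun y hy => by
    show f y ∈ U
    rw [hb y]; exact hy
  let A := Γ(X, U)
  let φ : A ⟶ A := f.appLE U U hle
  let j := hU.fromSpec
  have hsq : j ≫ f = Spec.map φ ≫ j := (IsAffineOpen.SpecMap_appLE_fromSpec f hU hU hle).symm
  suffices hφ : φ = 𝟙 A by rw [hsq, hφ, Spec.map_id, Category.id_comp]
  haveI : IsNoetherianRing A := IsLocallyNoetherian.component_noetherian ⟨U, hU⟩
  haveI : IsIso (Scheme.Modules.restrictAdjunction j).counit := inferInstance
  refine CommRingCat.hom_ext (RingHom.ext fun a => sub_eq_zero.1 ?_)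
  change φ a - a = 0
  refine Module.eq_zero_of_localization_maximal (fun P _ => Localization.AtPrime P)
    (fun P _ => Algebra.linearMap A (Localization.AtPrime P)) _ fun P hP => ?_
  suffices h : ∀ n : ℕ, φ a - a ∈ P ^ (n + 1) by
    have hmem : algebraMap A (Localization.AtPrime P) (φ a - a) ∈
        ⨅ i : ℕ, IsLocalRing.maximalIdeal (Localization.AtPrime P) ^ i := by
      refine Ideal.mem_iInf.2 fun i => ?_
      rw [← Localization.AtPrime.map_eq_maximalIdeal, ← Ideal.map_pow]
      exact Ideal.mem_map_of_mem _ (Ideal.pow_le_pow_right (Nat.le_succ i) (h i))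
    rwa [Ideal.iInf_pow_eq_bot_of_isLocalRing _ (IsLocalRing.maximalIdeal.isMaximal _).ne_top,
      Ideal.mem_bot] at hmem
  exact fun n => sub_mem_pow f j φ hsq ψ hψ a P n

end Groth.Agent.KerId9
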