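import Groth.Agent.Lib.KerId9.Supp
import Groth.Agent.Lib.ModM1.Ann
import Groth.Agent.Lib.ModM1.ClosedImm
import Groth.Agent.Lib.TwistBC9.LocFree
import Groth.Agent.Lib.DPush9.AffineAcyclic
import Groth.Agent.Lib.RelPCS8.TorRpush
import Groth.Agent.Lib.CurveCoh17.Integral

/-! Supports finite over the second factor, and concentration in degree zero. -/

set_option autoImplicit false
set_option linter.style.haveILetI false
set_option linter.unusedSectionVars false
set_option backward.isDefEq.respectTransparency false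
set_option backward.isDefEq.respectTransparency.types false
set_option maxHeartbeats 1600000

universe u

open CategoryTheory CategoryTheory.Limits AlgebraicGeometry CategoryTheory.Pretriangulated MonoidalCategory

attribute [local instance] HasDerivedCategory.standard

noncomputable section

namespace Groth.Agent.KerId9

open DMon9

attribute [local instance] DBC9.hasRpush

section Affine

variable {P Y : Scheme.{u}}

theorem isLE_rpush_affine (g : P ⟶ Y) [IsAffineHom g] (E : DCoh.D P) (hE : DCoh.IsQCohD E) (a b : ℤ)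
    [E.IsGE a] [E.IsLE b] : ((DCoh.Rpush g).obj E).IsLE b := by
  have h := RelPCS8.TorRpush.isLE_rpush g 0 (fun M hM i hi => by
    obtain ⟨e⟩ := TwistBC9.nonempty_rpush_inD_of_acyclic g M hM (DPush9.isAcyclicObj_affine g hM)
    refine IsZero.of_iso ?_ ((DerivedCategory.homologyFunctor _ i).mapIso e)
    exact DerivedCategory.isZero_of_isLE _ 0 i (by simpa using hi)) E hE a b
  rwa [Nat.cast_zero, add_zero] at h

/-- An affine morphism detects the top degree. -/
theorem isLE_of_rpush_affine (g : P ⟶ Y) [IsAffineHom g] (E : DCoh.D P) (hE : DCoh.IsQCohD E) (a b c : ℤ)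
    [E.IsGE a] [E.IsLE b] (h : ((DCoh.Rpush g).obj E).IsLE c) : E.IsLE c := by
  let t : Triangulated.TStructure (DCoh.D P) := DerivedCategory.TStructure.t
  obtain ⟨_, _⟩ := DPush.exists_commShift_isTriangulated g
  let T := (t.triangleLTGE (c + 1)).obj E
  have hT : T ∈ distTriang _ := t.triangleLTGE_distinguished (c + 1) E
  haveI : t.IsLE E b := ‹E.IsLE b›
  haveI : t.IsGE E a := ‹E.IsGE a›
  haveI : DerivedCategory.IsLE T.obj₁ c := t.isLE_truncLT_obj E (c + 1) c (by omega)
  haveI : DerivedCategory.IsGE T.obj₁ a := (inferInstance : t.IsGE ((t.truncLT (c + 1)).obj E) a)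
  haveI : DerivedCategory.IsGE T.obj₃ (c + 1) :=
    (inferInstance : t.IsGE ((t.truncGE (c + 1)).obj E) (c + 1))
  have hq₁ : DCoh.IsQCohD T.obj₁ := DMV.isQCohD_truncLT E hE _
  haveI := isLE_rpush_affine g T.obj₁ hq₁ a c
  haveI : ((DCoh.Rpush g).obj T.obj₂).IsLE c := h
  have h₂ : t.IsLE ((t.triangleLTGE (c + 1)).obj E).obj₂ b := ‹t.IsLE E b›
  have hz : IsZero T.obj₃ := DPush.isZero_of_rpush g _ (DMV.isQCohD_truncGE E hE _)
    (DMV.isZero_of_hd fun i => by
      rcases le_or_gt i c with hi | hi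
      · haveI := DPush.isGE_rpush g T.obj₃ (c + 1) inferInstance
        exact DerivedCategory.isZero_of_isGE _ (c + 1) i (by omega)
      · have hex := DerivedCategory.HomologySequence.exact₃ _ ((DCoh.Rpush g).map_distinguished T hT) i (i + 1)
        have h₁ : IsZero (DCoh.HD ((DCoh.Rpush g).obj T.obj₂) i) :=
          DerivedCategory.isZero_of_isLE _ c i hi
        have h₃ : IsZero (DCoh.HD ((DCoh.Rpush g).obj T.obj₁) (i + 1)) :=
          DerivedCategory.isZero_of_isLE _ c (i + 1) (by omega)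
        exact hex.isZero_of_both_zeros (h₁.eq_of_src _ _) (h₃.eq_of_tgt _ _))
  haveI : IsIso T.mor₁ := (Triangle.isZero₃_iff_isIso₁ _ hT).1 hz
  exact DerivedCategory.TStructure.t.isLE_of_iso (asIso T.mor₁ : T.obj₁ ≅ E) c

theorem isZero_of_push_affine (g : P ⟶ Y) [IsAffineHom g] {G : P.Modules} (hG : Coh.IsQCoh G)
    (h : IsZero ((Scheme.Modules.pushforward g).obj G)) : IsZero G := by
  obtain ⟨e⟩ := TwistBC9.nonempty_rpush_inD_of_acyclic g G hG (DPush9.isAcyclicObj_affine g hG)
  exact (((DerivedCategory.homologyFunctor _ 0).map_isZero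
    (DPush.isZero_of_rpush g _ (Exact8.isQCohD_single hG)
      ((Functor.map_isZero _ h).of_iso e)))).of_iso
    ((DerivedCategory.singleFunctorCompHomologyFunctorIso P.Modules 0).app G).symm

end Affine

variable {k : Type u} [Field k] {X : Scheme.{u}} [X.Over (Spec (.of k))]
  [IsProper (X ↘ Spec (CommRingCat.of k))] [Smooth (X ↘ Spec (CommRingCat.of k))]

local notation "ff" => (X ↘ Spec (CommRingCat.of k))
local notation "PR" => pullback (X ↘ Spec (CommRingCat.of k)) (X ↘ Spec (CommRingCat.of k))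
local notation "p₁" => pullback.fst (X ↘ Spec (CommRingCat.of k)) (X ↘ Spec (CommRingCat.of k))
local notation "p₂" => pullback.snd (X ↘ Spec (CommRingCat.of k)) (X ↘ Spec (CommRingCat.of k))

theorem isProper_p₂ : IsProper p₂ := MorphismProperty.pullback_snd (P := @IsProper) _ _ inferInstance

/-- The pairs of points over the same closed point form a finite set. -/
theorem finite_pairs {y : X} (hy : IsClosed ({y} : Set X)) :
    (p₁ ⁻¹' {y} ∩ p₂ ⁻¹' {y} : Set ↥(PR)).Finite := by
  haveI : JacobsonSpace X := LocallyOfFiniteType.jacobsonSpace ff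
  let j := X.fromSpecResidueField y
  haveI : IsClosedImmersion j := isClosed_singleton_iff_isClosedImmersion.1 hy
  haveI : IsFinite (j ≫ ff) := isFinite_iff_locallyOfFiniteType_of_jacobsonSpace.mpr inferInstance
  let m := pullback.map (j ≫ ff) (j ≫ ff) ff ff j j (𝟙 _) (Category.comp_id _) (Category.comp_id _)
  have hr : Set.range m = p₁ ⁻¹' {y} ∩ p₂ ⁻¹' {y} := by
    rw [Scheme.Pullback.range_map, Scheme.range_fromSpecResidueField]
  haveI : IsFinite (pullback.snd (j ≫ ff) (j ≫ ff)) :=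
    MorphismProperty.pullback_snd (P := @IsFinite) _ _ inferInstance
  haveI : Finite ↥(pullback (j ≫ ff) (j ≫ ff)) := by
    rw [← Set.finite_univ_iff]
    exact Set.Finite.subset ((pullback.snd (j ≫ ff) (j ≫ ff)).finite_preimage (s := Set.univ) Set.finite_univ)
      (fun z _ => trivial)
  rw [← hr]
  exact Set.finite_range _

/-- A closed subscheme whose closed points have equal projections is finite over the second factor. -/
theorem isFinite_of_closedPoints {Z : Scheme.{u}} (i : Z ⟶ PR) [IsClosedImmersion i]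
    (h : ∀ w : Z, IsClosed ({w} : Set Z) → p₁ (i w) = p₂ (i w)) : IsFinite (i ≫ p₂) := by
  haveI := isProper_p₂ (k := k) (X := X)
  haveI : IsProper (i ≫ p₂) := inferInstance
  haveI : JacobsonSpace X := LocallyOfFiniteType.jacobsonSpace ff
  haveI : JacobsonSpace Z := LocallyOfFiniteType.jacobsonSpace (i ≫ p₂)
  have hq : (i ≫ p₂).quasiFiniteLocus = ⊤ := by
    by_contra hne
    obtain ⟨w, hw, hwc⟩ : ((((i ≫ p₂).quasiFiniteLocus : Set Z))ᶜ ∩ closedPoints Z).Nonempty := by
      refine nonempty_inter_closedPoints ?_ (TopologicalSpace.Opens.isOpen _).isClosed_compl.isLocallyClosed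
      by_contra hemp
      rw [Set.not_nonempty_iff_eq_empty, Set.compl_empty_iff] at hemp
      exact hne (TopologicalSpace.Opens.ext hemp)
    have hwc' : IsClosed ({w} : Set Z) := hwc
    have hy : IsClosed ({(i ≫ p₂) w} : Set X) := by
      have := (i ≫ p₂).isClosedMap _ hwc'
      rwa [Set.image_singleton] at this
    have hsub : (i ≫ p₂) ⁻¹' {(i ≫ p₂) w} ⊆ i ⁻¹' (p₁ ⁻¹' {(i ≫ p₂) w} ∩ p₂ ⁻¹' {(i ≫ p₂) w}) := by
      intro w' hw'
      refine ⟨?_, by simpa [Scheme.Hom.comp_apply] using hw'⟩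
      by_contra hne'
      have hlc : IsLocallyClosed ((i ≫ p₂) ⁻¹' {(i ≫ p₂) w} \ (i ≫ p₁) ⁻¹' {(i ≫ p₂) w}) :=
        ((hy.preimage (i ≫ p₂).continuous).isLocallyClosed).inter
          (hy.preimage (i ≫ p₁).continuous).isOpen_compl.isLocallyClosed
      have hmem : w' ∈ (i ≫ p₂) ⁻¹' {(i ≫ p₂) w} \ (i ≫ p₁) ⁻¹' {(i ≫ p₂) w} :=
        ⟨hw', fun hh => hne' (by simpa [Scheme.Hom.comp_apply] using hh)⟩
      obtain ⟨w'', ⟨h2, h1⟩, hc⟩ := nonempty_inter_closedPoints ⟨w', hmem⟩ hlc
      refine h1 ?_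
      change (i ≫ p₁) w'' = _
      rw [Scheme.Hom.comp_apply, h w'' hc, ← Scheme.Hom.comp_apply]
      exact h2
    have hfin : ((i ≫ p₂) ⁻¹' {(i ≫ p₂) w}).Finite :=
      ((finite_pairs hy).preimage i.isClosedEmbedding.injective.injOn).subset hsub
    refine hw ?_
    show (i ≫ p₂).QuasiFiniteAt w
    rw [Scheme.Hom.quasiFiniteAt_iff_isOpen_singleton_asFiber]
    haveI : Finite ↥((i ≫ p₂).fiber ((i ≫ p₂) w)) :=
      haveI := hfin.to_subtype
      Finite.of_equiv _ ((i ≫ p₂).fiberHomeo ((i ≫ p₂) w)).toEquiv.symm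
    haveI : LocallyOfFiniteType ((i ≫ p₂).fiberToSpecResidueField ((i ≫ p₂) w)) :=
      MorphismProperty.pullback_snd (P := @LocallyOfFiniteType) _ _ inferInstance
    haveI : JacobsonSpace ↥((i ≫ p₂).fiber ((i ≫ p₂) w)) :=
      LocallyOfFiniteType.jacobsonSpace ((i ≫ p₂).fiberToSpecResidueField ((i ≫ p₂) w))
    exact isOpen_discrete _
  haveI : LocallyQuasiFinite (i ≫ p₂) := ((i ≫ p₂).quasiFiniteLocus_eq_top_iff).mp hq
  exact IsFinite.of_isProper_of_locallyQuasiFinite _

/-- A sheaf supported at closed points with equal projections comes from a scheme finite over `X`. -/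
theorem exists_model {M : (PR).Modules} (hM : Coh.IsCoh M)
    (h : ∀ z : ↥(PR), IsClosed ({z} : Set ↥(PR)) → z ∈ CohB1.support M → p₁ z = p₂ z) :
    ∃ (Z : Scheme.{u}) (i : Z ⟶ PR) (G : Z.Modules), IsClosedImmersion i ∧ IsFinite (i ≫ p₂) ∧ Coh.IsCoh G ∧
      Nonempty (M ≅ (Scheme.Modules.pushforward i).obj G) ∧
      ∀ (U : (PR).affineOpens) (a : Γ(PR, U.1)), (∀ s : Γ(M, U.1), a • s = 0) → a ∈ i.ker.ideal U := by
  haveI : IsLocallyNoetherian X := LocallyOfFiniteType.isLocallyNoetherian ff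
  haveI : CompactSpace X := QuasiCompact.compactSpace_of_compactSpace ff
  haveI : IsLocallyNoetherian PR := BoxRes9.isLocallyNoetherian_square (R := k) (X := X)
  let I := M1.annSheaf hM.1 hM.2
  let i := I.subschemeι
  haveI : IsIso ((Scheme.Modules.pullbackPushforwardAdjunction i).unit.app M) :=
    M1.isIso_unit_of_ker_smul i M hM.1 fun U a ha s => by
      rw [Scheme.IdealSheafData.ker_subschemeι, M1.annSheaf_ideal] at ha
      exact Module.mem_annihilator.1 ha s
  have hr : Set.range i = CohB1.support M := by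
    rw [Scheme.IdealSheafData.range_subschemeι]
    exact M1.support_annSheaf hM.1 hM.2
  refine ⟨_, i, (Scheme.Modules.pullback i).obj M, inferInstance, isFinite_of_closedPoints i fun w hw => ?_,
    M1.isCoh_pullback i hM, ⟨asIso ((Scheme.Modules.pullbackPushforwardAdjunction i).unit.app M)⟩, fun U a ha => ?_⟩
  · refine h (i w) ?_ (hr ▸ ⟨w, rfl⟩)
    have := i.isClosedEmbedding.isClosedMap _ hw
    rwa [Set.image_singleton] at this
  · rw [Scheme.IdealSheafData.ker_subschemeι, M1.annSheaf_ideal]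
    exact Module.mem_annihilator.2 ha

variable (A : DCoh.D (pullback (X ↘ Spec (CommRingCat.of k)) (X ↘ Spec (CommRingCat.of k))))

/-- The hypothesis: closed points of the square outside the diagonal avoid the cohomology. -/
theorem fst_eq_snd (hA : DCoh.IsPerfect A)
    (hΦ : ∀ x : X, IsClosed ({x} : Set X) → Nonempty ((lP p₁ ⋙ FMAdj9.tRD (A : DM PR) ⋙ DCoh.Rpush p₂).obj
      (DCoh.inD X (skyO x)) ≅ DCoh.inD X (skyO x)))
    (l : ℤ) (z : ↥(PR)) (hz : IsClosed ({z} : Set ↥(PR))) (hzs : z ∈ CohB1.support (DCoh.HD A l)) :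
    p₁ z = p₂ z := by
  haveI : IsProper p₁ := MorphismProperty.pullback_fst (P := @IsProper) _ _ inferInstance
  have hx : IsClosed ({p₁ z} : Set X) := by
    have := (p₁).isClosedMap _ hz
    rwa [Set.image_singleton] at this
  by_contra hne
  exact hzs (stalk_eq_zero A hA hx (hΦ _ hx) z rfl (fun h => hne h.symm) l)

/-- The kernel is a sheaf. -/
theorem isGE_zero (hA : DCoh.IsPerfect A) (hcoh : ∀ l, Coh.IsCoh (DCoh.HD A l)) (a₀ : ℤ) [A.IsGE a₀]
    (hd : ∀ (l : ℤ) (z : ↥(PR)), IsClosed ({z} : Set ↥(PR)) → z ∈ CohB1.support (DCoh.HD A l) → p₁ z = p₂ z)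
    (hO : ((DCoh.Rpush p₂).obj A).IsGE 0) : A.IsGE 0 := by
  suffices ∀ n : ℕ, ∀ c : ℤ, c + n = 0 → A.IsGE c → A.IsGE 0 from
    if h : a₀ ≤ 0 then this (-a₀).toNat a₀ (by omega) inferInstance
    else (DerivedCategory.isGE_iff A 0).2 fun i hi => DerivedCategory.isZero_of_isGE A a₀ i (by omega)
  intro n
  induction n with
  | zero => intro c hc hA'; rwa [show (0 : ℤ) = c by omega]
  | succ n ih =>
    intro c hc hA'
    refine ih (c + 1) (by omega) ?_
    refine (DerivedCategory.isGE_iff A (c + 1)).2 fun i hi => ?_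
    rcases lt_or_eq_of_le (show i ≤ c by omega) with h | rfl
    · exact DerivedCategory.isZero_of_isGE A c i h
    let t : Triangulated.TStructure (DCoh.D PR) := DerivedCategory.TStructure.t
    obtain ⟨_, _⟩ := DPush.exists_commShift_isTriangulated p₂
    let T := (t.triangleLTGE (i + 1)).obj A
    have hT : T ∈ distTriang _ := t.triangleLTGE_distinguished (i + 1) A
    haveI : t.IsGE A i := hA'
    haveI : DerivedCategory.IsLE T.obj₁ i := t.isLE_truncLT_obj A (i + 1) i (by omega)
    haveI : DerivedCategory.IsGE T.obj₁ i := (inferInstance : t.IsGE ((t.truncLT (i + 1)).obj A) i)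
    haveI : DerivedCategory.IsGE T.obj₃ (i + 1) :=
      (inferInstance : t.IsGE ((t.truncGE (i + 1)).obj A) (i + 1))
    obtain ⟨M, ⟨e⟩⟩ := DerivedCategory.exists_iso_singleFunctor_obj_of_isGE_of_isLE T.obj₁ i
    haveI := DerTrunc.isIso_homology_truncLTι A (i + 1) i (by omega)
    let eM : DCoh.HD A i ≅ M :=
      (asIso ((DerivedCategory.homologyFunctor _ i).map ((t.truncLTι (i + 1)).app A))).symm ≪≫
        (DerivedCategory.homologyFunctor _ i).mapIso e ≪≫
        (DerivedCategory.singleFunctorCompHomologyFunctorIso (PR).Modules i).app M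
    obtain ⟨Z, j, G, hj, hjf, hG, ⟨eG⟩, -⟩ := exists_model (hcoh i) (hd i)
    have hz₁ : IsZero (DCoh.HD ((DCoh.Rpush p₂).obj T.obj₁) i) := by
      have hex := DerivedCategory.HomologySequence.exact₁ _ ((DCoh.Rpush p₂).map_distinguished T hT) (i - 1) i
      haveI := DPush.isGE_rpush p₂ T.obj₃ (i + 1) inferInstance
      exact hex.isZero_of_both_zeros
        ((DerivedCategory.isZero_of_isGE ((DCoh.Rpush p₂).obj T.obj₃) (i + 1) (i - 1) (by omega)).eq_of_src _ _)
        ((DerivedCategory.isZero_of_isGE ((DCoh.Rpush p₂).obj A) 0 i (by omega)).eq_of_tgt _ _)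
    haveI := hj
    haveI := hjf
    haveI : ((DCoh.Rpush p₂).obj T.obj₁).IsGE i := DPush.isGE_rpush p₂ T.obj₁ i inferInstance
    let sh := ((DerivedCategory.singleFunctors (PR).Modules).shiftIso (-i) i 0 (by omega)).app M
    obtain ⟨rj⟩ := RHom.nonempty_rpushIso j
    obtain ⟨ac⟩ := TwistBC9.nonempty_rpush_inD_of_acyclic (j ≫ p₂) G hG.1 (DPush9.isAcyclicObj_affine _ hG.1)
    let eR : (DCoh.Rpush p₂).obj ((DerivedCategory.singleFunctor (PR).Modules 0).obj M) ≅
        (DerivedCategory.singleFunctor X.Modules 0).obj ((Scheme.Modules.pushforward (j ≫ p₂)).obj G) :=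
      (DCoh.Rpush p₂).mapIso ((DerivedCategory.singleFunctor _ 0).mapIso (eM.symm ≪≫ eG) ≪≫
        (((Scheme.Modules.pushforward j).mapDerivedCategorySingleFunctor 0).app G).symm ≪≫ (rj.app _).symm) ≪≫
        (FMAdj9.rpushComp j p₂ rfl).app _ ≪≫ ac
    let eS : (DCoh.Rpush p₂).obj T.obj₁ ≅
        ((DerivedCategory.singleFunctor X.Modules 0).obj ((Scheme.Modules.pushforward (j ≫ p₂)).obj G))⟦-i⟧ :=
      (DCoh.Rpush p₂).mapIso (e ≪≫ sh.symm) ≪≫ ((DCoh.Rpush p₂).commShiftIso (-i)).app _ ≪≫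
        (shiftFunctor _ (-i)).mapIso eR
    have hp : IsZero ((Scheme.Modules.pushforward (j ≫ p₂)).obj G) :=
      hz₁.of_iso (((DerivedCategory.homologyFunctor _ i).mapIso eS ≪≫
        ((DerivedCategory.homologyFunctor X.Modules 0).shiftIso (-i) i 0 (by omega)).app _ ≪≫
        (DerivedCategory.singleFunctorCompHomologyFunctorIso X.Modules 0).app _).symm)
    exact ((Scheme.Modules.pushforward j).map_isZero (isZero_of_push_affine (j ≫ p₂) hG.1 hp)).of_iso eG

end Groth.Agent.KerId9
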