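import Groth.Agent.Lib.KerId9.Top
import Mathlib.AlgebraicGeometry.Morphisms.IsIso

/-! A sheaf with push forward the structure sheaf sits on a section. -/

set_option autoImplicit false
set_option linter.style.haveILetI false
set_option linter.unusedSectionVars false
set_option backward.isDefEq.respectTransparency false
set_option backward.isDefEq.respectTransparency.types false
set_option maxHeartbeats 1600000

universe u

open CategoryTheory CategoryTheory.Limits AlgebraicGeometry CategoryTheory.Pretriangulated MonoidalCategory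

attribute [local instance] HasDerivedCategory.standard

noncomputable section

namespace Groth.Agent.KerId9

open DMon9

attribute [local instance] DBC9.hasRpush

variable {Z Y : Scheme.{u}}

/-- A faithful module that pushes forward to the structure sheaf forces an isomorphism on sections. -/
theorem bijective_app (g : Z ⟶ Y) (G : Z.Modules)
    (e : (Scheme.Modules.pushforward g).obj G ≅ Coh.structureModule Y) (V : Y.Opens)
    (hf : ∀ b : Γ(Z, g ⁻¹ᵁ V), (∀ s : Γ(G, g ⁻¹ᵁ V), b • s = 0) → b = 0) :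
    Function.Bijective (g.app V) := by
  let P := (Scheme.Modules.pushforward g).obj G
  let gen : Γ(P, V) := e.inv.app V (1 : Γ(Y, V))
  have hgen : ∀ s : Γ(P, V), ∃ a : Γ(Y, V), s = a • gen := fun s => by
    refine ⟨(show Γ(Y, V) from e.hom.app V s), ?_⟩
    have h1 := Scheme.Modules.Hom.app_smul e.inv (show Γ(Y, V) from e.hom.app V s)
      (show Γ(Coh.structureModule Y, V) from (1 : Γ(Y, V)))
    rw [show (show Γ(Y, V) from e.hom.app V s) • (show Γ(Coh.structureModule Y, V) from (1 : Γ(Y, V))) =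
      e.hom.app V s from mul_one (show Γ(Y, V) from e.hom.app V s)] at h1
    refine Eq.trans ?_ h1
    rw [← M1.comp_app_apply, Iso.hom_inv_id]
    rfl
  have hsm : ∀ (a : Γ(Y, V)) (s : Γ(G, g ⁻¹ᵁ V)), (show Γ(P, V) from g.app V a • s) = a • (show Γ(P, V) from s) :=
    fun a s => rfl
  have hinj : ∀ a : Γ(Y, V), a • gen = 0 → a = 0 := fun a ha => by
    have h := congrArg (e.hom.app V) ha
    rw [map_zero, Scheme.Modules.Hom.app_smul] at h
    have h1 : e.hom.app V gen = (1 : Γ(Y, V)) := by
      show e.hom.app V (e.inv.app V _) = _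
      rw [← M1.comp_app_apply, Iso.inv_hom_id]
      rfl
    rw [h1] at h
    exact (mul_one a).symm.trans h
  refine ⟨fun a a' h => ?_, fun b => ?_⟩
  · rw [← sub_eq_zero]
    refine hinj _ ?_
    rw [← hsm (a - a') gen, map_sub, h, sub_self, zero_smul]
  · obtain ⟨a, ha⟩ := hgen (show Γ(P, V) from b • (show Γ(G, g ⁻¹ᵁ V) from gen))
    refine ⟨a, (sub_eq_zero.1 (hf (b - g.app V a) fun s => ?_)).symm⟩
    obtain ⟨c, hc⟩ := hgen (show Γ(P, V) from s)
    have hs : s = g.app V c • (show Γ(G, g ⁻¹ᵁ V) from gen) := hc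
    have ha' : b • (show Γ(G, g ⁻¹ᵁ V) from gen) = g.app V a • (show Γ(G, g ⁻¹ᵁ V) from gen) := ha
    rw [hs, smul_comm, sub_smul, ha', sub_self, smul_zero]

theorem isIso_of_app [IsLocallyNoetherian Y] (g : Z ⟶ Y) [IsAffineHom g]
    (h : ∀ V : Y.Opens, IsAffineOpen V → Function.Bijective (g.app V)) : IsIso g := by
  have : MorphismProperty.isomorphisms Scheme g := by
    refine HasAffineProperty.of_iSup_eq_top (P := MorphismProperty.isomorphisms Scheme) (fun V : Y.affineOpens => V)
      (iSup_affineOpens_eq_top Y) fun V => ⟨V.2.preimage g, ?_⟩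
    rw [morphismRestrict_appTop]
    haveI : IsIso (g.app (V.1.ι ''ᵁ ⊤)) :=
      (ConcreteCategory.isIso_iff_bijective _).2 (h _ (by rw [Scheme.Opens.ι_image_top]; exact V.2))
    infer_instance
  exact this

variable {P : Scheme.{u}}

/-- A coherent sheaf finite over the base with push forward the structure sheaf is carried by a section. -/
theorem exists_section [IsLocallyNoetherian Y] [IsLocallyNoetherian Z] (i : Z ⟶ P) [IsClosedImmersion i]
    (q : P ⟶ Y) [IsFinite (i ≫ q)] (G : Z.Modules) (hG : Coh.IsCoh G)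
    (e : (Scheme.Modules.pushforward (i ≫ q)).obj G ≅ Coh.structureModule Y) :
    ∃ s : Y ⟶ P, s ≫ q = 𝟙 Y ∧ IsClosedImmersion s ∧
      Nonempty ((Scheme.Modules.pushforward i).obj G ≅ (Scheme.Modules.pushforward s).obj (Coh.structureModule Y)) := by
  let J := M1.annSheaf hG.1 hG.2
  let j := J.subschemeι
  haveI := M1.isIso_unit_of_ker_smul j G hG.1 fun U a ha s => by
    rw [Scheme.IdealSheafData.ker_subschemeι, M1.annSheaf_ideal] at ha
    exact Module.mem_annihilator.1 ha s
  let G' := (Scheme.Modules.pullback j).obj G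
  let u : G ≅ (Scheme.Modules.pushforward j).obj G' :=
    asIso ((Scheme.Modules.pullbackPushforwardAdjunction j).unit.app G)
  let g := j ≫ i ≫ q
  haveI : IsFinite g := inferInstance
  let e' : (Scheme.Modules.pushforward g).obj G' ≅ Coh.structureModule Y :=
    ((Scheme.Modules.pushforwardComp j (i ≫ q)).app G').symm ≪≫
      (Scheme.Modules.pushforward (i ≫ q)).mapIso u.symm ≪≫ e
  have hb : ∀ V : Y.Opens, IsAffineOpen V → Function.Bijective (g.app V) := fun V hV => by
    refine bijective_app g G' e' V fun b hb => ?_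
    have hU : IsAffineOpen ((i ≫ q) ⁻¹ᵁ V) := hV.preimage _
    obtain ⟨b₀, rfl⟩ : ∃ b₀, j.app ((i ≫ q) ⁻¹ᵁ V) b₀ = b := j.app_surjective _ hU b
    have hann : b₀ ∈ J.ideal ⟨_, hU⟩ := by
      rw [M1.annSheaf_ideal]
      refine Module.mem_annihilator.2 fun t => ?_
      have h0 : u.hom.app _ (b₀ • t) = 0 := by
        rw [Scheme.Modules.Hom.app_smul]
        exact hb (u.hom.app _ t)
      have := congrArg (u.inv.app _) h0
      rwa [map_zero, ← M1.comp_app_apply, Iso.hom_inv_id] at this
    have hk : b₀ ∈ j.ker.ideal ⟨_, hU⟩ := by rw [Scheme.IdealSheafData.ker_subschemeι]; exact hann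
    rw [Scheme.Hom.ker_apply, RingHom.mem_ker] at hk
    exact hk
  haveI := isIso_of_app g hb
  refine ⟨inv g ≫ j ≫ i, by simp [g], inferInstance, ⟨?_⟩⟩
  let eG' : G' ≅ (Scheme.Modules.pushforward (inv g)).obj (Coh.structureModule Y) :=
    ((Scheme.Modules.pushforwardId _).app G').symm ≪≫
      ((Scheme.Modules.pushforwardCongr (IsIso.hom_inv_id g)).app G').symm ≪≫
      ((Scheme.Modules.pushforwardComp g (inv g)).app G').symm ≪≫
      (Scheme.Modules.pushforward (inv g)).mapIso e'
  exact (Scheme.Modules.pushforward i).mapIso (u ≪≫ (Scheme.Modules.pushforward j).mapIso eG') ≪≫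
    (Scheme.Modules.pushforward i).mapIso ((Scheme.Modules.pushforwardComp (inv g) j).app _) ≪≫
    (Scheme.Modules.pushforwardComp (inv g ≫ j) i).app _ ≪≫
    (Scheme.Modules.pushforwardCongr (Category.assoc _ _ _)).app _

variable {k : Type u} [Field k] {X : Scheme.{u}} [X.Over (Spec (.of k))]
  [IsProper (X ↘ Spec (CommRingCat.of k))] [Smooth (X ↘ Spec (CommRingCat.of k))]

local notation "ff" => (X ↘ Spec (CommRingCat.of k))
local notation "PR" => pullback (X ↘ Spec (CommRingCat.of k)) (X ↘ Spec (CommRingCat.of k))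
local notation "p₁" => pullback.fst (X ↘ Spec (CommRingCat.of k)) (X ↘ Spec (CommRingCat.of k))
local notation "p₂" => pullback.snd (X ↘ Spec (CommRingCat.of k)) (X ↘ Spec (CommRingCat.of k))

/-- The kernel is carried by a section of the second projection. -/
theorem exists_kernel_section (A : DCoh.D PR) (hA : DCoh.IsPerfect A)
    (hΦ : ∀ x : X, IsClosed ({x} : Set X) → Nonempty ((lP p₁ ⋙ FMAdj9.tRD (A : DM PR) ⋙ DCoh.Rpush p₂).obj
      (DCoh.inD X (skyO x)) ≅ DCoh.inD X (skyO x)))
    (hO : Nonempty ((DCoh.Rpush p₂).obj A ≅ DCoh.inD X (Coh.structureModule X))) :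
    ∃ s : X ⟶ PR, s ≫ p₂ = 𝟙 X ∧ IsClosedImmersion s ∧
      Nonempty (A ≅ DCoh.inD PR ((Scheme.Modules.pushforward s).obj (Coh.structureModule X))) := by
  haveI : IsLocallyNoetherian X := LocallyOfFiniteType.isLocallyNoetherian ff
  haveI : CompactSpace X := QuasiCompact.compactSpace_of_compactSpace ff
  haveI : IsLocallyNoetherian PR := BoxRes9.isLocallyNoetherian_square (R := k) (X := X)
  haveI : CompactSpace ↥(PR) := by
    haveI : QuasiCompact p₂ := MorphismProperty.pullback_snd (P := @QuasiCompact) _ _ inferInstance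
    exact QuasiCompact.compactSpace_of_compactSpace p₂
  haveI : QuasiSeparatedSpace ↥(PR) := by
    haveI : IsLocallyNoetherian PR := inferInstance
    infer_instance
  obtain ⟨eO⟩ := hO
  have hq : DCoh.IsQCohD A := DGen9.isQCohD_of_isPerfect hA
  have hcoh : ∀ l, Coh.IsCoh (DCoh.HD A l) := fun l =>
    DPerf.isCoh_HD_of_pseudoCoherent (DGen9.isPseudoCoherentD_of_isPerfect hA l) (hq l) le_rfl
  obtain ⟨a₀, ha₀⟩ := DPerf.exists_isGE_of_perfect hA
  haveI : A.IsGE a₀ := ha₀
  have hd := fst_eq_snd A hA hΦ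
  have hge : ((DCoh.Rpush p₂).obj A).IsGE 0 := DerivedCategory.TStructure.t.isGE_of_iso eO.symm 0
  haveI : A.IsGE 0 := isGE_zero A hA hcoh a₀ hd hge
  obtain ⟨b₀, hb₀⟩ := DPerf.exists_isLE_of_pseudoCoherent (DGen9.isPseudoCoherentD_of_isPerfect hA 0)
  have hle : A.IsLE 0 := by
    suffices ∀ n : ℕ, ∀ b : ℤ, b ≤ n → A.IsLE b → A.IsLE 0 from this b₀.toNat b₀ (by omega) hb₀
    intro n
    induction n with
    | zero => exact fun b hb hA' => (DerivedCategory.isLE_iff A 0).2 fun i hi =>
        DerivedCategory.isZero_of_isLE A b i (by omega)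
    | succ n ih =>
      intro b hb hA'
      by_cases hb' : b ≤ n
      · exact ih b hb' hA'
      refine ih n le_rfl ((DerivedCategory.isLE_iff A _).2 fun i hi => ?_)
      rcases eq_or_ne i b with rfl | hne
      · exact top_zero A hA hcoh hΦ i (by omega)
      · exact DerivedCategory.isZero_of_isLE A b i (by omega)
  haveI := hle
  obtain ⟨M, ⟨eM⟩⟩ := DerivedCategory.exists_iso_singleFunctor_obj_of_isGE_of_isLE A 0
  let eH : DCoh.HD A 0 ≅ M := (DerivedCategory.homologyFunctor _ 0).mapIso eM ≪≫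
    (DerivedCategory.singleFunctorCompHomologyFunctorIso (PR).Modules 0).app M
  obtain ⟨Z, i, G, hi, hif, hG, ⟨eG⟩, -⟩ := exists_model (hcoh 0) (hd 0)
  haveI := hi
  haveI := hif
  haveI : IsLocallyNoetherian Z := LocallyOfFiniteType.isLocallyNoetherian i
  obtain ⟨rj⟩ := RHom.nonempty_rpushIso i
  obtain ⟨ac⟩ := TwistBC9.nonempty_rpush_inD_of_acyclic (i ≫ p₂) G hG.1 (DPush9.isAcyclicObj_affine _ hG.1)
  let eA : A ≅ DCoh.inD PR ((Scheme.Modules.pushforward i).obj G) :=
    eM ≪≫ (DerivedCategory.singleFunctor _ 0).mapIso (eH.symm ≪≫ eG)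
  let eD : DCoh.inD X ((Scheme.Modules.pushforward (i ≫ p₂)).obj G) ≅ DCoh.inD X (Coh.structureModule X) :=
    ac.symm ≪≫ ((FMAdj9.rpushComp i p₂ rfl).app _).symm ≪≫
      (DCoh.Rpush p₂).mapIso (rj.app _ ≪≫ ((Scheme.Modules.pushforward i).mapDerivedCategorySingleFunctor 0).app G ≪≫
        eA.symm) ≪≫ eO
  obtain ⟨s, hs, hsc, ⟨es⟩⟩ := exists_section i p₂ G hG
    (((DerivedCategory.singleFunctorCompHomologyFunctorIso X.Modules 0).app _).symm ≪≫
      (DerivedCategory.homologyFunctor _ 0).mapIso eD ≪≫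
      (DerivedCategory.singleFunctorCompHomologyFunctorIso X.Modules 0).app _)
  exact ⟨s, hs, hsc, ⟨eA ≪≫ (DerivedCategory.singleFunctor _ 0).mapIso es⟩⟩

end Groth.Agent.KerId9
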