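import Groth.Agent.Lib.KerId9.Fix

/-! The kernel of the identity functor is the diagonal. -/

set_option autoImplicit false
set_option linter.style.haveILetI false
set_option linter.unusedSectionVars false
set_option backward.isDefEq.respectTransparency false
set_option backward.isDefEq.respectTransparency.types false
set_option maxHeartbeats 1600000

universe u

open CategoryTheory CategoryTheory.Limits AlgebraicGeometry CategoryTheory.Pretriangulated MonoidalCategory

attribute [local instance] HasDerivedCategory.standard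

noncomputable section

namespace Groth.Agent.KerId9

open DMon9

attribute [local instance] DBC9.hasRpush

variable {k : Type u} [Field k] {X : Scheme.{u}} [X.Over (Spec (.of k))]
  [IsProper (X ↘ Spec (CommRingCat.of k))] [Smooth (X ↘ Spec (CommRingCat.of k))]

local notation "ff" => (X ↘ Spec (CommRingCat.of k))
local notation "PR" => pullback (X ↘ Spec (CommRingCat.of k)) (X ↘ Spec (CommRingCat.of k))
local notation "p₁" => pullback.fst (X ↘ Spec (CommRingCat.of k)) (X ↘ Spec (CommRingCat.of k))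
local notation "p₂" => pullback.snd (X ↘ Spec (CommRingCat.of k)) (X ↘ Spec (CommRingCat.of k))

/-- A kernel of the identity on perfect objects is the structure sheaf of the diagonal. -/
theorem nonempty_kernel_iso_diagonal (A : DCoh.D PR) (hA : DCoh.IsPerfect A)
    (θ : ObjectProperty.ι (SGA6.perfP X) ⋙ (lP p₁ ⋙ FMAdj9.tRD (A : DM PR) ⋙ DCoh.Rpush p₂) ≅
      ObjectProperty.ι (SGA6.perfP X)) :
    Nonempty (A ≅ DCoh.inD PR ((Coh.push (pullback.diagonal ff)).obj (Coh.structureModule X))) := by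
  haveI : IsLocallyNoetherian X := LocallyOfFiniteType.isLocallyNoetherian ff
  haveI : JacobsonSpace X := LocallyOfFiniteType.jacobsonSpace ff
  haveI : CompactSpace X := QuasiCompact.compactSpace_of_compactSpace ff
  have hperf : ∀ M : X.Modules, Coh.IsCoh M → DCoh.IsPerfect (DCoh.inD X M) :=
    fun M hM => isPerfect_of_coh (k := k) hM
  let P := fun (M : X.Modules) (hM : Coh.IsCoh M) => (⟨DCoh.inD X M, hperf M hM⟩ : (SGA6.perfP X).FullSubcategory)
  let u : (DCoh.inD X (Coh.structureModule X) : DM X) ≅ 𝟙_ (DM X) :=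
    ((DerivedCategory.singleFunctorIsoCompQ X.Modules 0).app (Coh.structureModule X) :
      DCoh.inD X (Coh.structureModule X) ≅ (qK X).obj (𝟙_ (KF X)))
  let v : ((dPull p₁).obj (DCoh.inD X (Coh.structureModule X) : DM X) ⊗ (A : DM PR) : DM PR) ≅ (A : DM PR) :=
    whiskerRightIso ((dPull p₁).mapIso u ≪≫ (Functor.Monoidal.εIso (dPull p₁)).symm) _ ≪≫ λ_ _
  have hO : Nonempty ((DCoh.Rpush p₂).obj A ≅ DCoh.inD X (Coh.structureModule X)) :=
    ⟨(DCoh.Rpush p₂).mapIso (v :).symm ≪≫ θ.app (P _ (M1.isCoh_structureModule X))⟩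
  obtain ⟨s, hs, hsc, ⟨es⟩⟩ := exists_kernel_section A hA
    (fun x hx => ⟨θ.app (P _ (isCoh_skyO hx))⟩) hO
  haveI := hsc
  let f := s ≫ p₁
  let e1 : ((rM s).obj (𝟙_ (DM X)) : DM PR) ≅ (A : DM PR) :=
    ((BC8.nonempty_rpush_one s).some ≪≫ es.symm :)
  let H : (SGA6.perfP X).FullSubcategory ⥤ DCoh.D PR := ObjectProperty.ι (SGA6.perfP X) ⋙ lP p₁
  obtain ⟨kp⟩ := FMAdj9.nonempty_kernelPush s (𝟙_ (DM X) : DM X)
    (DQC.isQCohD_of_iso (u :) (Exact8.isQCohD_single (M1.isCoh_structureModule X).1)) H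
    (fun c => isQCohD_lP p₁ (DGen9.isQCohD_of_isPerfect c.property))
  let r : DCoh.Rpush s ⋙ DCoh.Rpush p₂ ≅ 𝟭 (DCoh.D X) :=
    (((adjLP p₂).comp (adjLP s)).ofNatIsoLeft (lPComp s p₂ hs ≪≫ DBC9.lPId X)).rightAdjointUniq Adjunction.id
  let Ψ : ObjectProperty.ι (SGA6.perfP X) ⋙ (lP p₁ ⋙ FMAdj9.tRD (A : DM PR) ⋙ DCoh.Rpush p₂) ≅
      ObjectProperty.ι (SGA6.perfP X) ⋙ lP f :=
    Functor.isoWhiskerLeft (ObjectProperty.ι (SGA6.perfP X) ⋙ lP p₁)
        (Functor.isoWhiskerRight (FMAdj9.tRDMap e1).symm (DCoh.Rpush p₂)) ≪≫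
      (Functor.isoWhiskerRight kp.symm (DCoh.Rpush p₂) :) ≪≫
      (Functor.isoWhiskerLeft (H ⋙ lP s)
        (Functor.isoWhiskerRight (MonoidalCategory.rightUnitorNatIso (DM X) : FMAdj9.tRD (𝟙_ (DM X)) ≅ 𝟭 _)
          (DCoh.Rpush s ⋙ DCoh.Rpush p₂)) :) ≪≫
      (Functor.isoWhiskerLeft (H ⋙ lP s) r :) ≪≫
      (Functor.isoWhiskerLeft (ObjectProperty.ι (SGA6.perfP X)) (lPComp s p₁ rfl) :)
  obtain ⟨ψ, hψ⟩ := exists_module_iso f hperf (Ψ.symm ≪≫ θ)
  have hf : s ≫ p₁ = 𝟙 X := eq_id_of_module_iso f ψ hψ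
  have hd : s = pullback.diagonal ff := pullback.hom_ext
    (by rw [hf, pullback.diagonal_fst]) (by rw [hs, pullback.diagonal_snd])
  subst hd
  exact ⟨es⟩

end Groth.Agent.KerId9
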