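import Groth.Agent.Lib.KerId9.Finite
import Groth.Agent.Lib.BC8.Shriek660
import Groth.Agent.Lib.BC8.CohShriek
import Groth.Agent.Lib.TensorMod.PullSupport

/-! The kernel has no cohomology in positive degrees. -/

set_option autoImplicit false
set_option linter.style.haveILetI false
set_option linter.unusedSectionVars false
set_option backward.isDefEq.respectTransparency false
set_option backward.isDefEq.respectTransparency.types false
set_option maxHeartbeats 1600000

universe u

open CategoryTheory CategoryTheory.Limits AlgebraicGeometry CategoryTheory.Pretriangulated MonoidalCategory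

attribute [local instance] HasDerivedCategory.standard

noncomputable section

namespace Groth.Agent.KerId9

open DMon9

attribute [local instance] DBC9.hasRpush

/-- The top cohomology of a derived pullback is the pullback of the top cohomology. -/
theorem isZero_pullback_top {W Y : Scheme.{u}} (g : W ⟶ Y) (A : DCoh.D Y) (b : ℤ) [A.IsLE b]
    (h : IsZero (DCoh.HD ((lP g).obj A) b)) : IsZero ((Scheme.Modules.pullback g).obj (DCoh.HD A b)) := by
  let t : Triangulated.TStructure (DCoh.D Y) := DerivedCategory.TStructure.t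
  let S := (t.triangleLTGE b).obj A
  have hS : S ∈ distTriang _ := t.triangleLTGE_distinguished b A
  haveI : t.IsLE A b := ‹A.IsLE b›
  haveI : DerivedCategory.IsLE S.obj₁ (b - 1) := t.isLE_truncLT_obj A b (b - 1) (by omega)
  haveI : DerivedCategory.IsGE S.obj₃ b := (inferInstance : t.IsGE ((t.truncGE b).obj A) b)
  haveI : DerivedCategory.IsLE S.obj₃ b := (inferInstance : t.IsLE ((t.truncGE b).obj A) b)
  haveI : DerivedCategory.IsLE S.rotate.obj₃ (b - 2) := t.isLE_shift S.obj₁ (b - 1) 1 (b - 2) (by omega)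
  haveI := BC8.isLE_lP g S.rotate.obj₃ (b - 2)
  haveI := BC8.isLeftAdjoint_lP g
  haveI : (lP g).PreservesZeroMorphisms := Functor.preservesZeroMorphisms_of_isLeftAdjoint _
  have hex := DMon9.hExact_comp (lP g) (homExact_of_isLeftAdjoint _) (𝟭 (DCoh.D W)) b
  obtain ⟨w₁, e₁⟩ := hex S.rotate (rot_of_distTriang _ hS)
  have h3 : IsZero (DCoh.HD ((lP g).obj S.obj₃) b) :=
    e₁.isZero_of_both_zeros (h.eq_of_src _ _)
      ((DerivedCategory.isZero_of_isLE ((lP g).obj S.rotate.obj₃) (b - 2) b (by omega)).eq_of_tgt _ _)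
  obtain ⟨M, ⟨e⟩⟩ := DerivedCategory.exists_iso_singleFunctor_obj_of_isGE_of_isLE S.obj₃ b
  haveI := DerTrunc.isIso_homology_truncGEπ A b b le_rfl
  let eM : DCoh.HD A b ≅ M :=
    asIso ((DerivedCategory.homologyFunctor _ b).map ((t.truncGEπ b).app A)) ≪≫
      (DerivedCategory.homologyFunctor _ b).mapIso e ≪≫
      (DerivedCategory.singleFunctorCompHomologyFunctorIso Y.Modules b).app M
  obtain ⟨_, _⟩ := DPush.exists_commShift_isTriangulated g
  letI := (adjLP g).leftAdjointCommShift ℤ
  let sh := ((DerivedCategory.singleFunctors Y.Modules).shiftIso (-b) b 0 (by omega)).app M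
  let eS : (lP g).obj S.obj₃ ≅ ((lP g).obj ((DerivedCategory.singleFunctor Y.Modules 0).obj M))⟦-b⟧ :=
    (lP g).mapIso (e ≪≫ sh.symm) ≪≫ ((lP g).commShiftIso (-b)).app _
  haveI := TwistBC9.isIso_H0_cTr g M
  exact h3.of_iso ((Scheme.Modules.pullback g).mapIso eM ≪≫
    ((DerivedCategory.singleFunctorCompHomologyFunctorIso W.Modules 0).app _).symm ≪≫
    (asIso ((DerivedCategory.homologyFunctor W.Modules 0).map ((TwistBC9.cTr g).app M))).symm ≪≫
    (((DerivedCategory.homologyFunctor W.Modules 0).shiftIso (-b) b 0 (by omega)).app _).symm ≪≫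
    ((DerivedCategory.homologyFunctor W.Modules b).mapIso eS).symm)

variable {k : Type u} [Field k] {X : Scheme.{u}} [X.Over (Spec (.of k))]
  [IsProper (X ↘ Spec (CommRingCat.of k))] [Smooth (X ↘ Spec (CommRingCat.of k))]

local notation "ff" => (X ↘ Spec (CommRingCat.of k))
local notation "PR" => pullback (X ↘ Spec (CommRingCat.of k)) (X ↘ Spec (CommRingCat.of k))
local notation "p₁" => pullback.fst (X ↘ Spec (CommRingCat.of k)) (X ↘ Spec (CommRingCat.of k))
local notation "p₂" => pullback.snd (X ↘ Spec (CommRingCat.of k)) (X ↘ Spec (CommRingCat.of k))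

theorem top_zero (A : DCoh.D PR) (hA : DCoh.IsPerfect A) (hcoh : ∀ l, Coh.IsCoh (DCoh.HD A l))
    (hΦ : ∀ x : X, IsClosed ({x} : Set X) → Nonempty ((lP p₁ ⋙ FMAdj9.tRD (A : DM PR) ⋙ DCoh.Rpush p₂).obj
      (DCoh.inD X (skyO x)) ≅ DCoh.inD X (skyO x)))
    (b : ℤ) [A.IsLE b] (hb : 0 < b) : IsZero (DCoh.HD A b) := by
  haveI : IsLocallyNoetherian X := LocallyOfFiniteType.isLocallyNoetherian ff
  haveI : CompactSpace X := QuasiCompact.compactSpace_of_compactSpace ff
  haveI : IsProper p₁ := MorphismProperty.pullback_fst (P := @IsProper) _ _ inferInstance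
  haveI : JacobsonSpace ↥(PR) := LocallyOfFiniteType.jacobsonSpace (p₁ ≫ ff)
  haveI : CompactSpace ↥(PR) := QuasiCompact.compactSpace_of_compactSpace (p₁ ≫ ff)
  haveI : QuasiSeparatedSpace ↥(PR) := quasiSeparatedSpace_of_quasiSeparated (p₁ ≫ ff)
  have hq : DCoh.IsQCohD A := fun l => (hcoh l).1
  have hclosed : IsClosed (CohB1.support (DCoh.HD A b)) := by
    rw [← M1.support_annSheaf (hcoh b).1 (hcoh b).2]
    exact (M1.annSheaf (hcoh b).1 (hcoh b).2).support.isClosed
  refine DPerf.isZero_of_stalks fun z₀ => ?_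
  by_contra hz₀
  obtain ⟨z, hz, hzc⟩ : (CohB1.support (DCoh.HD A b) ∩ closedPoints ↥(PR)).Nonempty :=
    nonempty_inter_closedPoints ⟨z₀, hz₀⟩ hclosed.isLocallyClosed
  have hzc' : IsClosed ({z} : Set ↥(PR)) := hzc
  let x : X := p₁ z
  have hx : IsClosed ({x} : Set X) := by
    have := (p₁).isClosedMap _ hzc'
    rwa [Set.image_singleton] at this
  let j := X.fromSpecResidueField x
  let ι' := Limits.pullback.fst p₁ j
  let g := ι' ≫ p₂
  haveI : IsAffineHom g := isAffineHom_slice
  let L : DCoh.D (Limits.pullback p₁ j) := (lP ι').obj A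
  have hL : DCoh.IsQCohD L := isQCohD_lP ι' hq
  obtain ⟨eL⟩ := nonempty_phi_skyO hx (A : DM PR) hq
  obtain ⟨eΦ⟩ := hΦ x hx
  haveI : IsClosedImmersion j := isClosed_singleton_iff_isClosedImmersion.1 hx
  haveI : IsClosedImmersion ι' := MorphismProperty.pullback_fst (P := @IsClosedImmersion) _ _ inferInstance
  haveI : CompactSpace ↥(Limits.pullback p₁ j) := QuasiCompact.compactSpace_of_compactSpace ι'
  haveI : QuasiSeparatedSpace ↥(Limits.pullback p₁ j) := quasiSeparatedSpace_of_quasiSeparated ι'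
  obtain ⟨a', ha'⟩ := DPerf.exists_isGE_of_perfect (PerfPush9.isPerfect_lP ι' hA)
  haveI : L.IsGE a' := ha'
  haveI : L.IsLE b := BC8.isLE_lP ι' A b
  have hR : ((DCoh.Rpush g).obj L).IsLE 0 :=
    DerivedCategory.TStructure.t.isLE_of_iso (eΦ.symm ≪≫ eL) 0
  haveI := isLE_of_rpush_affine g L hL a' b 0 hR
  obtain ⟨w, hw⟩ : z ∈ Set.range ι' := by
    rw [Scheme.Pullback.range_fst, Scheme.range_fromSpecResidueField]
    rfl
  let pt := (Limits.pullback p₁ j).fromSpecResidueField w
  haveI := BC8.isLE_lP pt L 0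
  have h0 : IsZero ((Scheme.Modules.pullback (pt ≫ ι')).obj (DCoh.HD A b)) :=
    isZero_pullback_top (pt ≫ ι') A b
      ((DerivedCategory.isZero_of_isLE ((lP pt).obj L) 0 b hb).of_iso
        ((DerivedCategory.homologyFunctor _ b).mapIso ((lPComp pt ι' rfl).app A).symm))
  let w' : ↥(Spec ((Limits.pullback p₁ j).residueField w)) := IsLocalRing.closedPoint _
  have hmem : (pt ≫ ι') w' ∈ CohB1.support (DCoh.HD A b) := by
    rw [Scheme.Hom.comp_apply, Scheme.fromSpecResidueField_apply, hw]
    exact hz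
  have hs : w' ∈ CohB1.support ((Scheme.Modules.pullback (pt ≫ ι')).obj (DCoh.HD A b)) := by
    rw [M2.support_pullback _ (hcoh b).1 (hcoh b).2]
    exact hmem
  exact hs (AddCommGrpCat.subsingleton_of_isZero ((M1.stalkAb w').map_isZero h0))

end Groth.Agent.KerId9
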